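import Groth.Agent.H9Misc.TFactor
import Mathlib.CategoryTheory.ComposableArrows.Basic

/-! Chains of morphisms vanishing on cohomology below the top degree. -/

set_option backward.isDefEq.respectTransparency false

universe w v u

open CategoryTheory CategoryTheory.Limits Pretriangulated DerivedCategory

namespace Groth.Agent.GhostChain

variable {C : Type u} [Category.{v} C] [Abelian C] [HasDerivedCategory.{w} C]

local notation "tS" => (DerivedCategory.TStructure.t (C := C))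
local notation "H" => DerivedCategory.homologyFunctor C

theorem factor (k : ℕ) {n : ℕ} (hn : k ≤ n) (K : ComposableArrows (DerivedCategory C) n)
    (hK : ∀ (i : ℕ) (hi : i ≤ n) (p : ℤ), p < 0 ∨ (k : ℤ) < p → IsZero ((H p).obj (K.obj' i)))
    (hf : ∀ (i : ℕ) (hi : i < n) (p : ℤ), p < (k : ℤ) → (H p).map (K.map' i (i + 1)) = 0)
    (π : K.obj' 0 ⟶ (DerivedCategory.singleFunctor C (k : ℤ)).obj ((H (k : ℤ)).obj (K.obj' 0)))
    (hπ : IsIso ((H (k : ℤ)).map π)) :
    ∃ φ : (DerivedCategory.singleFunctor C (k : ℤ)).obj ((H (k : ℤ)).obj (K.obj' 0)) ⟶ K.obj' n,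
      K.map' 0 n = π ≫ φ := by
  have step : ∀ m : ℕ, ∀ hm : m ≤ k, ∃ g : ((tS).truncLT (k : ℤ)).obj (K.obj' 0) ⟶
      ((tS).truncLT ((k : ℤ) - m)).obj (K.obj' m),
      g ≫ ((tS).truncLTι ((k : ℤ) - m)).app (K.obj' m) = ((tS).truncLTι (k : ℤ)).app (K.obj' 0) ≫ K.map' 0 m := by
    intro m
    induction m with
    | zero =>
      intro _
      have e : ((k : ℤ) - (0 : ℕ)) = k := by simp
      rw [e]
      exact ⟨𝟙 _, by simp⟩
    | succ m ih =>
      intro hm
      obtain ⟨g, hg⟩ := ih (by omega)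
      have : (((tS).truncLT ((k : ℤ) - m)).obj (K.obj' m)).IsLE ((k : ℤ) - m - 1) := (tS).isLE_truncLT_obj ..
      have e : ((k : ℤ) - m - 1) = (k : ℤ) - (m + 1 : ℕ) := by omega
      obtain ⟨g', hg'⟩ := H9Misc.exists_lift_truncLT ((k : ℤ) - m - 1)
        (((tS).truncLTι ((k : ℤ) - m)).app (K.obj' m (le_trans (Nat.le_of_succ_le hm) hn)) ≫ K.map' m (m + 1) (by omega) (by omega))
        (by rw [Functor.map_comp, hf m (by omega) _ (by omega), comp_zero])
      revert g'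
      rw [e]
      intro g' hg'
      refine ⟨g ≫ g', ?_⟩
      rw [Category.assoc, hg', ← Category.assoc, hg, Category.assoc, ← ComposableArrows.map'_comp K 0 m (m + 1)]
  obtain ⟨g, hg⟩ := step k le_rfl
  have hGE : (K.obj' k).IsGE 0 := by
    rw [isGE_iff]; exact fun i hi => hK k hn i (Or.inl hi)
  have hLE : (((tS).truncLT ((k : ℤ) - k)).obj (K.obj' k)).IsLE (-1) := (tS).isLE_truncLT_obj _ _ _ (by omega)
  have h0 : ((tS).truncLTι (k : ℤ)).app (K.obj' 0) ≫ K.map' 0 n = 0 := by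
    rw [ComposableArrows.map'_comp K 0 k n, ← Category.assoc, ← hg,
      (tS).zero_of_isLE_of_isGE (((tS).truncLTι ((k : ℤ) - k)).app (K.obj' k)) (-1) 0 (by omega) hLE hGE, comp_zero,
      zero_comp]
  obtain ⟨φ₀, hφ₀⟩ := Triangle.yoneda_exact₂ _ ((tS).triangleLTGE_distinguished (k : ℤ) (K.obj' 0)) (K.map' 0 n) h0
  have : (((tS).truncLT (k : ℤ)).obj (K.obj' 0)).IsLE ((k : ℤ) - 1) := (tS).isLE_truncLT_obj ..
  obtain ⟨ε, hε⟩ := Triangle.yoneda_exact₂ _ ((tS).triangleLTGE_distinguished (k : ℤ) (K.obj' 0)) π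
    ((tS).zero _ ((k : ℤ) - 1) k)
  suffices key : ∀ ε : ((tS).truncGE (k : ℤ)).obj (K.obj' 0) ⟶ _,
      π = ((tS).truncGEπ (k : ℤ)).app (K.obj' 0) ≫ ε → IsIso ε by
    haveI := key ε hε
    exact ⟨inv ε ≫ φ₀, by rw [hφ₀]; simp [hε]⟩
  intro ε hε
  rw [DerivedCategory.isIso_iff]
  intro i
  have hsingle : ∀ j : ℤ, j ≠ k →
      IsZero ((H j).obj ((DerivedCategory.singleFunctor C (k : ℤ)).obj ((H (k : ℤ)).obj (K.obj' 0)))) := fun j hj => by
    rcases lt_or_gt_of_ne hj with h | h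
    · exact isZero_of_isGE _ (k : ℤ) j h
    · exact isZero_of_isLE _ (k : ℤ) j h
  rcases eq_or_ne i k with rfl | hi
  · have := H9Misc.isIso_map_truncGEπ (k : ℤ) k le_rfl (K.obj' 0)
    have e : (H (k : ℤ)).map (((tS).truncGEπ (k : ℤ)).app (K.obj' 0)) ≫ (H (k : ℤ)).map ε = (H (k : ℤ)).map π := by
      rw [← Functor.map_comp, hε]
    have : IsIso ((H (k : ℤ)).map (((tS).truncGEπ (k : ℤ)).app (K.obj' 0)) ≫ (H (k : ℤ)).map ε) := e ▸ hπ
    exact IsIso.of_isIso_comp_left ((H (k : ℤ)).map (((tS).truncGEπ (k : ℤ)).app (K.obj' 0 (Nat.zero_le n)))) _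
  · have hs : IsZero ((H i).obj (((tS).truncGE (k : ℤ)).obj (K.obj' 0))) := by
      have hGEk : (((tS).truncGE (k : ℤ)).obj (K.obj' 0)).IsGE k := (tS).isGE_truncGE_obj ..
      rcases lt_or_gt_of_ne hi with h | h
      · exact isZero_of_isGE _ (k : ℤ) i h
      · have := H9Misc.isIso_map_truncGEπ (k : ℤ) i h.le (K.obj' 0)
        exact (hK 0 (Nat.zero_le _) i (Or.inr h)).of_iso (asIso ((H i).map (((tS).truncGEπ (k : ℤ)).app (K.obj' 0 (Nat.zero_le n))))).symm
    exact isIso_of_source_target_iso_zero _ hs.isoZero (hsingle i hi).isoZero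

end Groth.Agent.GhostChain
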